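import Mathlib
import Cfsg.Agent.Lib.Conj.NormUnits

/-! Two non-degenerate forms preserved by the same semisimple endomorphism `a` differ by an
automorphism commuting with `a`, as soon as they do so on the eigenspaces of `1` and `-1`. -/

set_option autoImplicit false

namespace CfsgLib.FormsConj

open Module

variable {F V : Type*} [Field F] [AddCommGroup V] [Module F V]

/-- `B'` is the pull-back of `B` by an automorphism commuting with `a`. -/
def SameOrbit (a : End F V) (B B' : LinearMap.BilinForm F V) : Prop :=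
  ∃ x : V ≃ₗ[F] V, (∀ v, x (a v) = a (x v)) ∧ ∀ u v, B (x u) (x v) = B' u v

theorem isCompl_ker_range [FiniteDimensional F V] (b : End F V) {N : ℕ} (hN : (N : F) ≠ 0) (hb : b ^ N = 1) :
    IsCompl (LinearMap.ker (b - 1)) (LinearMap.range (b - 1)) := by
  have hd : Disjoint (LinearMap.ker (b - 1)) (LinearMap.range (b - 1)) := by
    rw [Submodule.disjoint_def]
    rintro x hx ⟨y, rfl⟩
    rw [LinearMap.mem_ker, LinearMap.sub_apply, End.one_apply, sub_eq_zero] at hx
    have hpow : ∀ i : ℕ, (b ^ i) ((b - 1) y) = (b - 1) y := by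
      intro i
      induction i with
      | zero => simp
      | succ i ih => rw [pow_succ, End.mul_apply, hx, ih]
    have h1 : (∑ i ∈ Finset.range N, b ^ i) ((b - 1) y) = (N : F) • (b - 1) y := by
      rw [LinearMap.sum_apply, Finset.sum_congr rfl (fun i _ => hpow i), Finset.sum_const,
        Finset.card_range, ← Nat.cast_smul_eq_nsmul F]
    have h2 : (∑ i ∈ Finset.range N, b ^ i) * (b - 1) = 0 := by rw [geom_sum_mul, hb, sub_self]
    rw [← End.mul_apply, h2, LinearMap.zero_apply] at h1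
    exact (smul_eq_zero.mp h1.symm).resolve_left hN
  refine ⟨hd, codisjoint_iff.mpr (Submodule.eq_top_of_disjoint _ _ ?_ hd)⟩
  rw [add_comm, LinearMap.finrank_range_add_finrank_ker]

theorem orth_ker_range (B : LinearMap.BilinForm F V) (b : End F V) (hb : ∀ u v, B (b u) (b v) = B u v)
    {k r : V} (hk : k ∈ LinearMap.ker (b - 1)) (hr : r ∈ LinearMap.range (b - 1)) :
    B k r = 0 ∧ B r k = 0 := by
  obtain ⟨y, rfl⟩ := hr
  rw [LinearMap.mem_ker, LinearMap.sub_apply, End.one_apply, sub_eq_zero] at hk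
  constructor
  · rw [LinearMap.sub_apply, End.one_apply, map_sub]
    nth_rewrite 1 [← hk]
    rw [hb, sub_self]
  · rw [LinearMap.sub_apply, End.one_apply, map_sub, LinearMap.sub_apply]
    nth_rewrite 1 [← hk]
    rw [hb, sub_self]

theorem restrict_nondegenerate (B : LinearMap.BilinForm F V) (hB : B.Nondegenerate) {K R : Submodule F V}
    (hc : IsCompl K R) (ho : ∀ k ∈ K, ∀ r ∈ R, B k r = 0 ∧ B r k = 0) :
    (B.restrict K).Nondegenerate ∧ (B.restrict R).Nondegenerate := by
  have hdec : ∀ v : V, ∃ k ∈ K, ∃ r ∈ R, k + r = v := fun v =>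
    Submodule.mem_sup.mp (hc.sup_eq_top ▸ Submodule.mem_top : v ∈ K ⊔ R)
  refine ⟨⟨fun x hx => Subtype.ext (hB.1 _ fun y => ?_), fun x hx => Subtype.ext (hB.2 _ fun y => ?_)⟩,
    ⟨fun x hx => Subtype.ext (hB.1 _ fun y => ?_), fun x hx => Subtype.ext (hB.2 _ fun y => ?_)⟩⟩ <;>
    obtain ⟨k, hk, r, hr, rfl⟩ := hdec y
  · rw [map_add, (ho _ x.2 r hr).1, add_zero]; exact hx ⟨k, hk⟩
  · rw [map_add, LinearMap.add_apply, (ho _ x.2 r hr).2, add_zero]; exact hx ⟨k, hk⟩
  · rw [map_add, (ho k hk _ x.2).2, zero_add]; exact hx ⟨r, hr⟩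
  · rw [map_add, LinearMap.add_apply, (ho k hk _ x.2).1, zero_add]; exact hx ⟨r, hr⟩

theorem sameOrbit_of_compl (a : End F V) (B B' : LinearMap.BilinForm F V) {K R : Submodule F V}
    (hc : IsCompl K R) (hK : ∀ v ∈ K, a v ∈ K) (hR : ∀ v ∈ R, a v ∈ R)
    (ho : ∀ k ∈ K, ∀ r ∈ R, B k r = 0 ∧ B r k = 0) (ho' : ∀ k ∈ K, ∀ r ∈ R, B' k r = 0 ∧ B' r k = 0)
    (hk : SameOrbit (a.restrict hK) (B.restrict K) (B'.restrict K))
    (hr : SameOrbit (a.restrict hR) (B.restrict R) (B'.restrict R)) : SameOrbit a B B' := by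
  obtain ⟨y, hy, hy'⟩ := hk
  obtain ⟨z, hz, hz'⟩ := hr
  let e := Submodule.prodEquivOfIsCompl K R hc
  refine ⟨e.symm.trans ((y.prodCongr z).trans e), fun v => ?_, fun u v => ?_⟩
  · obtain ⟨⟨k, r⟩, rfl⟩ := e.surjective v
    have ha : a (e (k, r)) = e (a.restrict hK k, a.restrict hR r) := by simp [e]
    rw [ha]
    simp only [LinearEquiv.trans_apply, LinearEquiv.symm_apply_apply, LinearEquiv.prodCongr_apply, hy, hz]
    simp [e]
  · obtain ⟨⟨k, r⟩, rfl⟩ := e.surjective u
    obtain ⟨⟨k', r'⟩, rfl⟩ := e.surjective v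
    have h1 := hy' k k'
    have h2 := hz' r r'
    rw [LinearMap.BilinForm.restrict_apply, LinearMap.BilinForm.restrict_apply] at h1 h2
    simp only [LinearEquiv.trans_apply, LinearEquiv.symm_apply_apply, LinearEquiv.prodCongr_apply]
    simp [e, (ho _ (y k).2 _ (z r').2).1, (ho _ (y k').2 _ (z r).2).2, (ho' _ k.2 _ r'.2).1,
      (ho' _ k'.2 _ r.2).2]
    exact congrArg₂ (· + ·) (by simpa using h1) (by simpa using h2)

/-- Without eigenvalues `±1` there is nothing else to check. -/
theorem sameOrbit_of_injective [Finite F] [FiniteDimensional F V] {ε : F} (a : End F V) {N : ℕ}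
    (hN : 0 < N) (ha : a ^ N = 1) (hinj : ∀ v, a (a v) = v → v = 0)
    (B B' : LinearMap.BilinForm F V) (hB : B.Nondegenerate) (hB' : B'.Nondegenerate)
    (hs : ∀ u v, B v u = ε * B u v) (hs' : ∀ u v, B' v u = ε * B' u v)
    (hi : ∀ u v, B (a u) (a v) = B u v) (hi' : ∀ u v, B' (a u) (a v) = B' u v) :
    SameOrbit a B B' := by
  classical
  have : Finite V := Module.finite_of_finite F
  have : Finite (End F V) := Finite.of_injective (fun f => (f : V → V)) DFunLike.coe_injective
  let a' := a ^ (N - 1)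
  have haa' : a * a' = 1 := by rw [← pow_succ', Nat.sub_add_cancel hN, ha]
  have ha'a : a' * a = 1 := by rw [← pow_succ, Nat.sub_add_cancel hN, ha]
  obtain ⟨s, hsdef⟩ : ∃ s : End F V, ∀ u v, B (s u) v = B' u v :=
    ⟨(B.toDual hB).symm.toLinearMap ∘ₗ B', fun u v => by simp⟩
  have hsa : Commute s a := by
    refine LinearMap.ext fun u => sub_eq_zero.mp (hB.1 _ fun v => ?_)
    rw [map_sub, LinearMap.sub_apply, sub_eq_zero, End.mul_apply, End.mul_apply, hsdef]
    obtain ⟨w, rfl⟩ : ∃ w, a w = v := ⟨a' v, LinearMap.congr_fun haa' v⟩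
    rw [hi', hi, hsdef]
  have hsadj : ∀ u v, B (s u) v = B u (s v) := fun u v => by
    rw [hsdef, hs (s v) u, hsdef, hs' v u]
  let R := Algebra.adjoin F ({a, s} : Set (End F V))
  have hcomm : ∀ x ∈ R, ∀ y ∈ R, x * y = y * x := by
    have h2 : ∀ x ∈ ({a, s} : Set (End F V)), ∀ y ∈ ({a, s} : Set (End F V)), x * y = y * x := by
      rintro x (rfl | rfl) y (rfl | rfl) <;> first | rfl | exact hsa.eq | exact hsa.eq.symm
    have := Algebra.isMulCommutative_adjoin F h2
    intro x hx y hy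
    exact congrArg Subtype.val (mul_comm' (⟨x, hx⟩ : R) ⟨y, hy⟩)
  letI : CommRing R := { (inferInstance : Ring R) with mul_comm := fun x y => Subtype.ext (hcomm _ x.2 _ y.2) }
  have hadj : ∀ r : R, ∃ r' : R, ∀ u v, B (r.1 u) v = B u (r'.1 v) := by
    rintro ⟨r, hr⟩
    induction hr using Algebra.adjoin_induction with
    | mem x hx =>
      rcases hx with hx | hx
      · refine ⟨⟨a', R.pow_mem (Algebra.subset_adjoin (Set.mem_insert _ _)) _⟩, fun u v => ?_⟩
        show B (x u) v = B u (a' v)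
        rw [hx]
        conv_lhs => rw [← End.one_apply (R := F) v, ← haa', End.mul_apply, hi]
      · rw [Set.mem_singleton_iff] at hx
        refine ⟨⟨s, Algebra.subset_adjoin (Set.mem_insert_of_mem _ rfl)⟩, fun u v => ?_⟩
        show B (x u) v = B u (s v)
        rw [hx]; exact hsadj u v
    | algebraMap c => exact ⟨⟨algebraMap F _ c, R.algebraMap_mem c⟩, fun u v => by simp⟩
    | add x y _ _ hx hy =>
      obtain ⟨x', hx'⟩ := hx
      obtain ⟨y', hy'⟩ := hy
      exact ⟨x' + y', fun u v => by simp [hx', hy']⟩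
    | mul x y hxm hym hx hy =>
      obtain ⟨x', hx'⟩ := hx
      obtain ⟨y', hy'⟩ := hy
      exact ⟨y' * x', fun u v => by simp [hx', hy']⟩
  have huniq : ∀ (r r' : End F V), (∀ u v, B u (r v) = B u (r' v)) → r = r' := fun r r' h =>
    LinearMap.ext fun v => sub_eq_zero.mp (hB.2 _ fun u => by rw [map_sub, h, sub_self])
  choose st hst using hadj
  have hst' : ∀ (r : R) (r' : End F V), (∀ u v, B (r.1 u) v = B u (r' v)) → (st r).1 = r' := fun r r' h =>
    huniq _ _ fun u v => by rw [← hst, h]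
  let σ : R →+* R :=
    { toFun := st
      map_one' := Subtype.ext (hst' 1 1 fun u v => rfl)
      map_mul' := fun x y => Subtype.ext <| hst' _ _ fun u v => by
        rw [Subalgebra.coe_mul, Subalgebra.coe_mul, hcomm _ (st x).2 _ (st y).2]
        simp [hst]
      map_zero' := Subtype.ext (hst' 0 0 fun u v => by simp)
      map_add' := fun x y => Subtype.ext (hst' _ _ fun u v => by simp [hst]) }
  have hσ : ∀ r, σ (σ r) = r := fun r => Subtype.ext <| hst' _ _ fun u v => by
    change B ((st r).1 u) v = B u (r.1 v)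
    rw [hs v ((st r).1 u), ← hst, ← hs (r.1 v) u]
  let w : R := ⟨a, Algebra.subset_adjoin (Set.mem_insert _ _)⟩
  have hσw : (σ w).1 = a' := hst' _ _ fun u v => by
    show B (a u) v = _
    conv_lhs => rw [← End.one_apply (R := F) v, ← haa', End.mul_apply, hi]
  have hunit : ∀ r : R, (∀ v, r.1 v = 0 → v = 0) → IsUnit r := by
    intro r hr
    have hfi : Function.Injective (fun x : R => r * x) := fun x y h => by
      refine Subtype.ext (LinearMap.ext fun v => sub_eq_zero.mp (hr _ ?_))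
      rw [map_sub, sub_eq_zero]
      exact LinearMap.congr_fun (congrArg Subtype.val h) v
    obtain ⟨r', hr'⟩ := Finite.injective_iff_surjective.mp hfi 1
    exact .of_mul_eq_one r' hr'
  have hwu : IsUnit (σ w - w) := hunit _ fun v hv => by
    rw [Subalgebra.coe_sub, hσw, LinearMap.sub_apply, sub_eq_zero] at hv
    have h : a' v = a v := hv
    refine hinj v ?_
    rw [← h, ← End.mul_apply, haa', End.one_apply]
  let t : R := ⟨s, Algebra.subset_adjoin (Set.mem_insert_of_mem _ rfl)⟩
  have htu : IsUnit t := hunit _ fun v hv => hB'.1 v fun y => by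
    rw [← hsdef]
    simp [show s v = 0 from hv]
  obtain ⟨y, hyu, hy⟩ := CfsgLib.Conj.exists_norm_eq σ hσ hwu t htu (Subtype.ext (hst' _ _ hsadj))
  have hyu' : IsUnit y.1 := hyu.map R.val
  refine ⟨LinearEquiv.ofBijective y.1 ((End.isUnit_iff _).mp hyu'), fun v => ?_, fun u v => ?_⟩
  · exact LinearMap.congr_fun (hcomm _ y.2 _ w.2) v
  · show B (y.1 u) (y.1 v) = _
    rw [hst, ← End.mul_apply, hcomm _ (st y).2 _ y.2, show y.1 * (st y).1 = s from congrArg Subtype.val hy,
      ← hsadj, hsdef]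

end CfsgLib.FormsConj
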