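import Mathlib
import Cfsg.Agent.Lib.FormsConj.Semisimple
import Cfsg.Agent.Lib.LinFix.SympIndex
import Cfsg.Agent.Lib.Forms.Witt

/-! The eigenspaces of `±1`: conjugacy of semisimple isometries of alternating and quadratic forms. -/

set_option autoImplicit false

namespace CfsgLib.FormsConj

open Module

variable {F V : Type*} [Field F] [AddCommGroup V] [Module F V]

theorem exists_alt_isometry {W : Type*} [AddCommGroup W] [Module F W] [FiniteDimensional F V]
    [FiniteDimensional F W] (B : LinearMap.BilinForm F V) (C : LinearMap.BilinForm F W) (hB : B.Nondegenerate)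
    (hC : C.Nondegenerate) (hBa : B.IsAlt) (hCa : C.IsAlt) (hd : finrank F V = finrank F W) :
    ∃ x : V ≃ₗ[F] W, ∀ u v, C (x u) (x v) = B u v := by
  obtain ⟨d, e, he⟩ := CfsgLib.LinFix.exists_sympEquiv B hBa fun v h => hB.1 v h
  obtain ⟨d', e', he'⟩ := CfsgLib.LinFix.exists_sympEquiv C hCa fun v h => hC.1 v h
  have h1 := e.finrank_eq
  have h2 := e'.finrank_eq
  simp only [finrank_fintype_fun_eq_card, Fintype.card_sum, Fintype.card_fin] at h1 h2
  obtain rfl : d = d' := by omega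
  exact ⟨e.trans e'.symm, fun u v => by simp [he, he']⟩

theorem sameOrbit_alt_scalar [FiniteDimensional F V] (a : End F V) (c : F) (hc : ∀ v, a v = c • v)
    (B B' : LinearMap.BilinForm F V) (hB : B.Nondegenerate) (hB' : B'.Nondegenerate) (hBa : B.IsAlt)
    (hBa' : B'.IsAlt) : SameOrbit a B B' := by
  obtain ⟨x, hx⟩ := exists_alt_isometry B' B hB' hB hBa' hBa rfl
  exact ⟨x, fun v => by rw [hc, hc, map_smul], hx⟩

theorem restrict_pow_eq_one (a : End F V) {N : ℕ} (ha : a ^ N = 1) {W : Submodule F V}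
    (hW : ∀ v ∈ W, a v ∈ W) : a.restrict hW ^ N = 1 := by
  rw [Module.End.pow_restrict N hW]
  exact LinearMap.ext fun v => Subtype.ext (by simp [ha])

theorem ker_invariant (a b : End F V) (h : Commute a b) (v : V) (hv : v ∈ LinearMap.ker (b - 1)) :
    a v ∈ LinearMap.ker (b - 1) := by
  rw [LinearMap.mem_ker] at hv ⊢
  have := LinearMap.congr_fun ((h.sub_right (Commute.one_right a)).eq) v
  rw [End.mul_apply, End.mul_apply, hv, map_zero] at this
  exact this.symm

theorem range_invariant (a b : End F V) (h : Commute a b) (v : V) (hv : v ∈ LinearMap.range (b - 1)) :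
    a v ∈ LinearMap.range (b - 1) := by
  obtain ⟨y, rfl⟩ := hv
  exact ⟨a y, (LinearMap.congr_fun ((h.sub_right (Commute.one_right a)).eq) y).symm⟩

/-- Alternating forms: no condition at all. -/
theorem sameOrbit_alt [Finite F] [FiniteDimensional F V] (a : End F V) {N : ℕ} (hN : (N : F) ≠ 0)
    (ha : a ^ N = 1) (B B' : LinearMap.BilinForm F V) (hB : B.Nondegenerate) (hB' : B'.Nondegenerate)
    (hBa : B.IsAlt) (hBa' : B'.IsAlt)
    (hi : ∀ u v, B (a u) (a v) = B u v) (hi' : ∀ u v, B' (a u) (a v) = B' u v) : SameOrbit a B B' := by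
  have hN0 : 0 < N := Nat.pos_of_ne_zero fun h => hN (by simp [h])
  have hc := isCompl_ker_range a hN ha
  have ho := fun k (hk : k ∈ LinearMap.ker (a - 1)) r (hr : r ∈ LinearMap.range (a - 1)) =>
    orth_ker_range B a hi hk hr
  have ho' := fun k (hk : k ∈ LinearMap.ker (a - 1)) r (hr : r ∈ LinearMap.range (a - 1)) =>
    orth_ker_range B' a hi' hk hr
  obtain ⟨hKn, hRn⟩ := restrict_nondegenerate B hB hc ho
  obtain ⟨hKn', hRn'⟩ := restrict_nondegenerate B' hB' hc ho'
  refine sameOrbit_of_compl a B B' hc (ker_invariant a a (Commute.refl a))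
    (range_invariant a a (Commute.refl a)) ho ho' ?_ ?_
  · refine sameOrbit_alt_scalar _ 1 (fun v => Subtype.ext ?_) _ _ hKn hKn' (fun v => hBa _) (fun v => hBa' _)
    show a v.1 = (1 : F) • v.1
    exact (sub_eq_zero.mp (LinearMap.mem_ker.mp v.2)).trans (one_smul F v.1).symm
  set R := LinearMap.range (a - 1) with hR
  set a₁ := a.restrict (range_invariant a a (Commute.refl a)) with ha₁
  have ha₁N : a₁ ^ N = 1 := restrict_pow_eq_one a ha _
  have hi₁ : ∀ u v : R, B.restrict R (a₁ u) (a₁ v) = B.restrict R u v := fun u v => hi _ _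
  have hi₁' : ∀ u v : R, B'.restrict R (a₁ u) (a₁ v) = B'.restrict R u v := fun u v => hi' _ _
  have hi₂ : ∀ u v : R, B.restrict R ((a₁ ^ 2) u) ((a₁ ^ 2) v) = B.restrict R u v := fun u v => by
    rw [pow_two, End.mul_apply, End.mul_apply, hi₁, hi₁]
  have hi₂' : ∀ u v : R, B'.restrict R ((a₁ ^ 2) u) ((a₁ ^ 2) v) = B'.restrict R u v := fun u v => by
    rw [pow_two, End.mul_apply, End.mul_apply, hi₁', hi₁']
  have hbN : (a₁ ^ 2) ^ N = 1 := by rw [← pow_mul, mul_comm, pow_mul, ha₁N, one_pow]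
  have hc₂ := isCompl_ker_range (a₁ ^ 2) hN hbN
  have ho₂ := fun k (hk : k ∈ LinearMap.ker (a₁ ^ 2 - 1)) r (hr : r ∈ LinearMap.range (a₁ ^ 2 - 1)) =>
    orth_ker_range (B.restrict R) (a₁ ^ 2) hi₂ hk hr
  have ho₂' := fun k (hk : k ∈ LinearMap.ker (a₁ ^ 2 - 1)) r (hr : r ∈ LinearMap.range (a₁ ^ 2 - 1)) =>
    orth_ker_range (B'.restrict R) (a₁ ^ 2) hi₂' hk hr
  obtain ⟨hKn₂, hRn₂⟩ := restrict_nondegenerate _ hRn hc₂ ho₂
  obtain ⟨hKn₂', hRn₂'⟩ := restrict_nondegenerate _ hRn' hc₂ ho₂'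
  refine sameOrbit_of_compl a₁ _ _ hc₂ (ker_invariant _ _ ((Commute.refl a₁).pow_right 2))
    (range_invariant _ _ ((Commute.refl a₁).pow_right 2)) ho₂ ho₂' ?_ ?_
  · refine sameOrbit_alt_scalar _ (-1) (fun v => Subtype.ext ?_) _ _ hKn₂ hKn₂' (fun v => hBa _)
      (fun v => hBa' _)
    have hv : a₁ (a₁ v.1) = v.1 := by
      simpa [sub_eq_zero, pow_two] using LinearMap.mem_ker.mp v.2
    have h1 : a₁ v.1 + v.1 = 0 := by
      have hmem : ((a₁ v.1 + v.1 : R) : V) ∈ LinearMap.ker (a - 1) := by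
        rw [LinearMap.mem_ker, LinearMap.sub_apply, End.one_apply, sub_eq_zero]
        change ((a₁ (a₁ v.1 + v.1) : R) : V) = _
        rw [map_add, hv, add_comm]
      exact Subtype.ext (Submodule.disjoint_def.mp hc.disjoint _ hmem (a₁ v.1 + v.1).2)
    show a₁ v.1 = _
    simp [eq_neg_of_add_eq_zero_left h1]
  · refine sameOrbit_of_injective (ε := -1) _ hN0 (restrict_pow_eq_one _ ha₁N _) (fun v hv => ?_) _ _ hRn₂ hRn₂'
      (fun u v => ?_) (fun u v => ?_) (fun u v => hi₁ _ _) (fun u v => hi₁' _ _)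
    · have hmem : v.1 ∈ LinearMap.ker (a₁ ^ 2 - 1) := by
        rw [LinearMap.mem_ker, LinearMap.sub_apply, End.one_apply, sub_eq_zero]
        exact (LinearMap.congr_fun (pow_two a₁) v.1).trans (congrArg Subtype.val hv)
      exact Subtype.ext (Submodule.disjoint_def.mp hc₂.disjoint _ hmem v.2)
    · rw [neg_one_mul]; exact (LinearMap.IsAlt.neg hBa _ _).symm
    · rw [neg_one_mul]; exact (LinearMap.IsAlt.neg hBa' _ _).symm

/-- Conjugate semisimple isometries of a quadratic form without eigenvalue `-1` are conjugate in the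
isometry group. -/
theorem exists_quad_conj [Finite F] [FiniteDimensional F V] (Q : QuadraticForm F V)
    (hQ : (QuadraticMap.polarBilin Q).Nondegenerate) (a c : End F V) {N : ℕ} (hN : (N : F) ≠ 0)
    (hodd : Odd N) (ha : a ^ N = 1) (hQa : ∀ v, Q (a v) = Q v) (hQc : ∀ v, Q (c v) = Q v)
    (g : V ≃ₗ[F] V) (hg : ∀ v, g (a v) = c (g v)) :
    ∃ h : V ≃ₗ[F] V, (∀ v, Q (h v) = Q v) ∧ ∀ v, h (a v) = c (h v) := by
  have hN0 : 0 < N := hodd.pos
  set B := QuadraticMap.polarBilin Q with hBdef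
  have hB : ∀ u v, B u v = Q (u + v) - Q u - Q v := fun u v => rfl
  let B' : LinearMap.BilinForm F V := B.compl₁₂ g.toLinearMap g.toLinearMap
  have hB' : ∀ u v, B' u v = B (g u) (g v) := fun u v => rfl
  have hB'n : B'.Nondegenerate := by
    refine ⟨fun u hu => ?_, fun v hv => ?_⟩
    · refine g.injective ((hQ.1 _ fun y => ?_).trans (map_zero g).symm)
      obtain ⟨v, rfl⟩ := g.surjective y
      exact hu v
    · refine g.injective ((hQ.2 _ fun y => ?_).trans (map_zero g).symm)
      obtain ⟨u, rfl⟩ := g.surjective y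
      exact hv u
  have hi : ∀ u v, B (a u) (a v) = B u v := fun u v => by rw [hB, hB, ← map_add, hQa, hQa, hQa]
  have hi' : ∀ u v, B' (a u) (a v) = B' u v := fun u v => by
    rw [hB', hB', hg, hg, hB, hB, ← map_add, hQc, hQc, hQc]
  have hcompl := isCompl_ker_range a hN ha
  have ho := fun k (hk : k ∈ LinearMap.ker (a - 1)) r (hr : r ∈ LinearMap.range (a - 1)) =>
    orth_ker_range B a hi hk hr
  have ho' := fun k (hk : k ∈ LinearMap.ker (a - 1)) r (hr : r ∈ LinearMap.range (a - 1)) =>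
    orth_ker_range B' a hi' hk hr
  obtain ⟨-, hRn⟩ := restrict_nondegenerate B hQ hcompl ho
  obtain ⟨-, hRn'⟩ := restrict_nondegenerate B' hB'n hcompl ho'
  set K := LinearMap.ker (a - 1) with hK
  set R := LinearMap.range (a - 1) with hR
  set a₁ := a.restrict (range_invariant a a (Commute.refl a)) with ha₁
  have hfix : ∀ v : R, a₁ (a₁ v) = v → v = 0 := fun v hv => by
    have heven : ∀ i, ((a ^ 2) ^ i) v.1 = v.1 := by
      intro i
      induction i with
      | zero => simp
      | succ i ih => rw [pow_succ, End.mul_apply, pow_two, End.mul_apply, ← pow_two]; exact (congrArg _ (congrArg Subtype.val hv)).trans ih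
    obtain ⟨i, hi2⟩ := hodd
    have h1 : (a ^ N) v.1 = a v.1 := by
      rw [hi2, pow_succ', End.mul_apply, pow_mul, heven]
    rw [ha, End.one_apply] at h1
    refine Subtype.ext (Submodule.disjoint_def.mp hcompl.disjoint _ ?_ v.2)
    rw [hK, LinearMap.mem_ker, LinearMap.sub_apply, End.one_apply, sub_eq_zero]
    exact h1.symm
  obtain ⟨x, hxa, hx⟩ := sameOrbit_of_injective (ε := 1) a₁ hN0 (restrict_pow_eq_one a ha _) hfix
    (LinearMap.BilinForm.restrict B R) (B'.restrict R) hRn hRn'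
    (fun u v => by rw [one_mul]; exact QuadraticMap.polar_comm Q _ _)
    (fun u v => by rw [one_mul]; exact QuadraticMap.polar_comm Q _ _) (fun u v => hi _ _) (fun u v => hi' _ _)
  have hQx : ∀ v : R, Q (x v).1 = Q (g v.1) := by
    intro v
    let φ : R → F := fun v => Q (x v).1 - Q (g v.1)
    have hadd : ∀ u v : R, φ (u + v) = φ u + φ v := fun u v => by
      have h : B (x u).1 (x v).1 = B (g u.1) (g v.1) := hx u v
      rw [hB, hB] at h
      simp only [φ, map_add, Submodule.coe_add]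
      linear_combination h
    have hφa : ∀ v : R, φ (a₁ v) = φ v := fun v => by
      have h1 : (x (a₁ v)).1 = a (x v).1 := congrArg Subtype.val (hxa v)
      show Q (x (a₁ v)).1 - Q (g (a v.1)) = Q (x v).1 - Q (g v.1)
      rw [h1, hQa, hg, hQc]
    obtain ⟨w, hw⟩ : ∃ w : R, a₁ w - w = v := by
      refine LinearMap.surjective_of_injective (f := a₁ - 1)
        ((injective_iff_map_eq_zero _).mpr fun w hw => hfix w ?_) v
      rw [LinearMap.sub_apply, End.one_apply, sub_eq_zero] at hw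
      rw [hw, hw]
    refine sub_eq_zero.mp (show φ v = 0 from ?_)
    have := hadd (a₁ w - w) w
    rw [sub_add_cancel, hφa, hw] at this
    linear_combination -this
  -- extend `x ∘ g⁻¹` from `g R`
  obtain ⟨f, hf⟩ := LinearMap.exists_extend (R.subtype ∘ₗ x.toLinearMap)
  have hf' : ∀ r (hr : r ∈ R), f r = (x ⟨r, hr⟩).1 := fun r hr => LinearMap.congr_fun hf ⟨r, hr⟩
  obtain ⟨h, hh, hhR⟩ := CfsgLib.Forms.witt_quadratic Q hQ (R.map g.toLinearMap) (f ∘ₗ g.symm.toLinearMap)
    (by
      rintro _ ⟨r, hr, rfl⟩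
      rw [LinearMap.comp_apply, LinearEquiv.coe_coe, LinearEquiv.coe_coe, LinearEquiv.symm_apply_apply, hf' r hr,
        hQx])
    (by
      rintro _ ⟨r, hr, rfl⟩ h0
      rw [LinearMap.comp_apply, LinearEquiv.coe_coe, LinearEquiv.coe_coe, LinearEquiv.symm_apply_apply,
        hf' r hr] at h0
      have : (⟨r, hr⟩ : R) = 0 := (LinearEquiv.map_eq_zero_iff x).mp (Subtype.ext h0)
      rw [show r = 0 from congrArg Subtype.val this, map_zero])
  let y := g.trans h
  have hyR : ∀ r (hr : r ∈ R), y r = (x ⟨r, hr⟩).1 := fun r hr => by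
    show h (g r) = _
    rw [hhR (g r) ⟨r, hr, rfl⟩, LinearMap.comp_apply, LinearEquiv.coe_coe, LinearEquiv.symm_apply_apply, hf' r hr]
  have hyK : ∀ k ∈ K, y k ∈ K := by
    intro k hk
    obtain ⟨k', hk', r', hr', hsum⟩ := Submodule.mem_sup.mp (hcompl.sup_eq_top ▸ Submodule.mem_top : y k ∈ K ⊔ R)
    suffices r' = 0 by rw [this, add_zero] at hsum; exact hsum ▸ hk'
    have h1 : ∀ r : R, B r' r.1 = 0 := fun r => by
      obtain ⟨r₀, rfl⟩ := x.surjective r
      have h2 : B (y k) (y r₀.1) = 0 := by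
        rw [show B (y k) (y r₀.1) = B' k r₀.1 by
          show B (h (g k)) (h (g r₀.1)) = B (g k) (g r₀.1)
          rw [hB, hB, ← map_add, hh, hh, hh]]
        exact (ho' k hk _ r₀.2).1
      rw [← hsum, hyR _ r₀.2, map_add, LinearMap.add_apply, (ho k' hk' _ (x r₀).2).1, zero_add] at h2
      exact h2
    exact congrArg Subtype.val (hRn.1 ⟨r', hr'⟩ h1)
  have hya : ∀ v, y (a v) = a (y v) := by
    intro v
    obtain ⟨k, hk, r, hr, rfl⟩ := Submodule.mem_sup.mp (hcompl.sup_eq_top ▸ Submodule.mem_top : v ∈ K ⊔ R)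
    have hak : ∀ k ∈ K, a k = k := fun k hk => sub_eq_zero.mp (LinearMap.mem_ker.mp hk)
    rw [map_add, map_add, map_add, map_add, hak k hk, hak _ (hyK k hk), hyR r hr,
      hyR (a r) (range_invariant a a (Commute.refl a) r hr)]
    exact congrArg (y k + ·) (congrArg Subtype.val (hxa ⟨r, hr⟩))
  refine ⟨y.symm.trans g, fun v => ?_, fun v => ?_⟩
  · obtain ⟨w, rfl⟩ := y.surjective v
    rw [LinearEquiv.trans_apply, LinearEquiv.symm_apply_apply]
    exact (hh (g w)).symm
  · obtain ⟨w, rfl⟩ := y.surjective v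
    show g (y.symm (a (y w))) = c (g (y.symm (y w)))
    rw [← hya, LinearEquiv.symm_apply_apply, LinearEquiv.symm_apply_apply, hg]

end CfsgLib.FormsConj
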